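import Groth.Agent.Duality.SheafHomExt
import Groth.Agent.CohTwo.SheafHomIso
import Groth.Agent.SiteCohomology.SchemeModules
import Groth.Agent.PicAux.Pullback

/-!
Extensions which split locally split globally when the first cohomology of the sheaf Hom vanishes.
-/

set_option autoImplicit false
set_option linter.style.longLine false

noncomputable section

universe u

open CategoryTheory CategoryTheory.Limits AlgebraicGeometry TopologicalSpace

namespace Groth.ArtfunDeform.CMTwo

open Groth.PicAux (res resX app_res tmulSec oneSec)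
open Groth.CohTwo.SheafHomIso (iso iso_hom_app currySec currySec_val curryStalk_germ ev tF tF_map_tmulSec)
open Groth.Duality.SheafHom (homSec homSec_bijective homSec_comp h0)

variable {Y : Scheme.{u}}

/-- Push-forward of the restriction to an open. -/
abbrev locFun (V : Y.Opens) : Y.Modules ⥤ Y.Modules :=
  Scheme.Modules.restrictFunctor V.ι ⋙ Scheme.Modules.pushforward V.ι

/-- Restriction to an open. -/
abbrev locUnitAt (V : Y.Opens) : 𝟭 Y.Modules ⟶ locFun V := (Scheme.Modules.restrictAdjunction V.ι).unit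

theorem bijective_locUnit_app (V : Y.Opens) (M : Y.Modules) {W : Y.Opens} (h : W ≤ V) :
    Function.Bijective (((locUnitAt V).app M).app W) := by
  rw [Scheme.Modules.restrictAdjunction_unit_app_app]
  have hW : V.ι ''ᵁ (V.ι ⁻¹ᵁ W) = W := by
    rw [Scheme.Hom.image_preimage_eq_opensRange_inf, Scheme.Opens.opensRange_ι, inf_eq_right.2 h]
  have : IsIso (homOfLE (Scheme.Hom.image_preimage_le V.ι W)) :=
    ⟨homOfLE hW.ge, Subsingleton.elim _ _, Subsingleton.elim _ _⟩
  have : IsIso (M.presheaf.map (homOfLE (Scheme.Hom.image_preimage_le V.ι W)).op) := inferInstance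
  exact ConcreteCategory.bijective_of_isIso (M.presheaf.map (homOfLE (Scheme.Hom.image_preimage_le V.ι W)).op)

section Sections

variable (C : Y.Modules) [DCoh.HasSheafHom C] {M N : Y.Modules}

/-- Evaluating a section of the sheaf Hom. -/
def evalSec {W : Y.Opens} (b : Γ((DCoh.sheafHom C).obj M, W)) (m : Γ(C, W)) : Γ(M, W) :=
  (ev C M).app W (tmulSec m b)

theorem evalSec_map (q : M ⟶ N) {W : Y.Opens} (b : Γ((DCoh.sheafHom C).obj M, W)) (m : Γ(C, W)) :
    evalSec C (((DCoh.sheafHom C).map q).app W b) m = q.app W (evalSec C b m) := by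
  have h := congr(($((DCoh.sheafHomAdj C).counit.naturality q)).app W (tmulSec m b))
  refine Eq.trans ?_ h
  exact congrArg ((ev C N).app W) (tF_map_tmulSec ((DCoh.sheafHom C).map q) W m b).symm

theorem secToLin_iso {W : Y.Opens} (b : Γ((DCoh.sheafHom C).obj M, W)) (m : Γ(C, W)) :
    Groth.RefRank.secToLin ((iso C M).hom.app W b) m = evalSec C b m :=
  Groth.RefRank.mod_section_ext M fun z hz => by
    rw [Groth.RefRank.germ_secToLin, iso_hom_app, currySec_val, curryStalk_germ]
    rfl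

theorem exists_sec_of_linear [C.IsQuasicoherent] {W : Y.Opens} (hW : IsAffineOpen W)
    (L : Γ(C, W) →ₗ[Γ(Y, W)] Γ(M, W)) : ∃ b : Γ((DCoh.sheafHom C).obj M, W), ∀ m, evalSec C b m = L m := by
  obtain ⟨g, hg⟩ := Groth.RefRank.secToLin_surjective hW L
  have e : (iso C M).hom.app W ((iso C M).inv.app W g) = g :=
    congr(($((iso C M).inv_hom_id)).app W g)
  exact ⟨(iso C M).inv.app W g, fun m => by rw [← secToLin_iso, e, hg]⟩

theorem evalSec_injective [C.IsQuasicoherent] {W : Y.Opens} (hW : IsAffineOpen W)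
    {b b' : Γ((DCoh.sheafHom C).obj M, W)} (h : ∀ m, evalSec C b m = evalSec C b' m) : b = b' := by
  have e : (iso C M).hom.app W b = (iso C M).hom.app W b' :=
    Groth.RefRank.secToLin_injective hW (LinearMap.ext fun m => by rw [secToLin_iso, secToLin_iso, h])
  have e' := congrArg ((iso C M).inv.app W) e
  have h1 : ∀ c, (iso C M).inv.app W ((iso C M).hom.app W c) = c := fun c =>
    congr(($((iso C M).hom_inv_id)).app W c)
  rwa [h1, h1] at e'

theorem evalSec_homSec (ψ : C ⟶ M) {W : Y.Opens} (m : Γ(C, W)) :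
    evalSec C (res _ (le_top : W ≤ ⊤) (homSec C ψ)) m = ψ.app W m := by
  let g := (DCoh.sheafHomAdj C).homEquiv (Coh.structureModule Y) M ((SecTwist.unitorR C).hom ≫ ψ)
  have e : res _ (le_top : W ≤ ⊤) (homSec C ψ) = g.app W (oneSec Y W) :=
    (app_res g le_top (oneSec Y ⊤)).symm.trans (congrArg (g.app W) (Groth.PicAux.res_oneSec _))
  rw [e]
  have h : (tF C).map g ≫ ev C M = (SecTwist.unitorR C).hom ≫ ψ :=
    ((DCoh.sheafHomAdj C).homEquiv_counit _ _ _).symm.trans (Equiv.symm_apply_apply _ _)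
  refine Eq.trans (congrArg ((ev C M).app W) (tF_map_tmulSec g W m (oneSec Y W)).symm) ?_
  refine (congr(($h).app W (tmulSec m (oneSec Y W)))).trans ?_
  refine congrArg (ψ.app W) ?_
  refine (SecTwist.unitorR_tmul C W m _).trans ?_
  change (1 : Γ(Y, W)) • m = m
  exact one_smul _ m

end Sections

variable {S : ShortComplex Y.Modules} (hS : S.ShortExact) {O : Y.Modules} (π : S.X₁ ⟶ O)

include hS in
theorem exists_linear_lift {I K : Y.Modules} (i : O ⟶ I) (q : I ⟶ K) (hiq : i ≫ q = 0) (Φ : S.X₂ ⟶ I)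
    (hΦ : S.f ≫ Φ = π ≫ i) (ψ : S.X₃ ⟶ K) (hψ : S.g ≫ ψ = Φ ≫ q) {V W : Y.Opens} (hWV : W ≤ V)
    (φ : S.X₂ ⟶ (locFun V).obj O) (hφ : S.f ≫ φ = π ≫ (locUnitAt V).app O) :
    ∃ L : Γ(S.X₃, W) →ₗ[Γ(Y, W)] Γ(I, W), ∀ m, q.app W (L m) = ψ.app W m := by
  have := hS.epi_g
  let D : S.X₂ ⟶ (locFun V).obj I := Φ ≫ (locUnitAt V).app I - φ ≫ (locFun V).map i
  have hD : S.f ≫ D = 0 := by
    rw [Preadditive.comp_sub, reassoc_of% hΦ, reassoc_of% hφ, ← (locUnitAt V).naturality i]
    exact sub_self _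
  let a : S.X₃ ⟶ (locFun V).obj I := hS.exact.desc D hD
  have ha : a ≫ (locFun V).map q = ψ ≫ (locUnitAt V).app K := by
    rw [← cancel_epi S.g, ← Category.assoc, hS.exact.g_desc D hD, reassoc_of% hψ, Preadditive.sub_comp,
      Category.assoc, Category.assoc, ← Functor.map_comp, hiq, ← (locUnitAt V).naturality q]
    have : (locFun V).PreservesZeroMorphisms := inferInstance
    rw [Functor.map_zero, comp_zero, sub_zero]
    rfl
  have hb := bijective_locUnit_app V I hWV
  choose L hL using fun m : Γ(S.X₃, W) => hb.2 (a.app W m)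
  refine ⟨{ toFun := L, map_add' := fun m m' => hb.1 ?_, map_smul' := fun r m => hb.1 ?_ }, fun m => ?_⟩
  · rw [map_add, hL, hL, hL, map_add]
  · rw [RingHom.id_apply, Scheme.Modules.Hom.app_smul, hL, hL, Scheme.Modules.Hom.app_smul]
  · refine (bijective_locUnit_app V K hWV).1 ?_
    refine (congr(($((locUnitAt V).naturality q)).app W (L m))).trans ?_
    change ((locFun V).map q).app W (((locUnitAt V).app I).app W (L m)) = _
    rw [hL]
    exact congr(($ha).app W m)

include hS in
/-- An extension which splits locally splits when the first cohomology of the sheaf Hom vanishes. -/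
theorem exists_split_of_locally (k : Type u) [CommRing k] [Y.Over (Spec (CommRingCat.of k))]
    [S.X₃.IsQuasicoherent] [DCoh.HasSheafHom S.X₃]
    (hloc : ∀ y : Y, ∃ V : Y.Opens, y ∈ V ∧ ∃ φ : S.X₂ ⟶ (locFun V).obj O, S.f ≫ φ = π ≫ (locUnitAt V).app O)
    (h1 : Subsingleton (Coh.HH Y ((DCoh.sheafHom S.X₃).obj O) 1)) :
    ∃ φ : S.X₂ ⟶ O, S.f ≫ φ = π := by
  have := hS.mono_f
  have := hS.epi_g
  let i := Injective.ι O
  let q := cokernel.π i
  let Φ : S.X₂ ⟶ Injective.under O := Injective.factorThru (π ≫ i) S.f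
  have hΦ : S.f ≫ Φ = π ≫ i := Injective.comp_factorThru _ _
  have hiq : i ≫ q = 0 := cokernel.condition i
  let ψ : S.X₃ ⟶ cokernel i := hS.exact.desc (Φ ≫ q) (by rw [reassoc_of% hΦ, hiq, comp_zero])
  have hψ : S.g ≫ ψ = Φ ≫ q := hS.exact.g_desc _ _
  suffices ∃ a : S.X₃ ⟶ Injective.under O, a ≫ q = ψ by
    obtain ⟨a, ha⟩ := this
    have h0 : (Φ - S.g ≫ a) ≫ q = 0 := by
      rw [Preadditive.sub_comp, Category.assoc, ha, hψ, sub_self]
    have hex : (ShortComplex.mk i q hiq).Exact := ShortComplex.exact_cokernel i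
    have : Mono i := Injective.ι_mono O
    refine ⟨hex.lift _ h0, (cancel_mono i).1 ?_⟩
    rw [Category.assoc, show hex.lift _ h0 ≫ i = Φ - S.g ≫ a from hex.lift_f _ h0, Preadditive.comp_sub, hΦ,
      ← Category.assoc, S.zero, zero_comp, sub_zero]
  let H := DCoh.sheafHom S.X₃
  have : H.Additive := (DCoh.sheafHomAdj S.X₃).right_adjoint_additive
  have : PreservesLimitsOfSize.{0, 0} H := (DCoh.sheafHomAdj S.X₃).rightAdjoint_preservesLimits
  let h := H.map q
  let T := Abelian.image h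
  let σ : Γ(H.obj (cokernel i), ⊤) := homSec S.X₃ ψ
  have hσ : (cokernel.π h).app ⊤ σ = 0 := by
    refine Groth.CohTwo.eq_of_local _ _ _ fun y hy => ?_
    obtain ⟨V, hyV, φ, hφ⟩ := hloc y
    obtain ⟨_, ⟨W, hW, rfl⟩, hyW, hWV⟩ := Y.isBasis_affineOpens.exists_subset_of_mem_open hyV V.2
    obtain ⟨L, hL⟩ := exists_linear_lift hS π i q hiq Φ hΦ ψ hψ (V := V) (W := W) hWV φ hφ
    obtain ⟨b, hb⟩ := exists_sec_of_linear S.X₃ hW L
    have e : res (H.obj (cokernel i)) (le_top : W ≤ ⊤) σ = h.app W b :=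
      evalSec_injective S.X₃ hW fun m => by rw [evalSec_homSec, evalSec_map, hb, hL]
    refine ⟨W, le_top, hyW, ?_⟩
    refine Eq.trans ?_ (map_zero _).symm
    refine ((app_res (cokernel.π h) (le_top : W ≤ ⊤) σ).symm.trans ?_ :
      res (cokernel h) (le_top : W ≤ ⊤) ((cokernel.π h).app ⊤ σ) = 0)
    rw [e]
    exact congr(($(cokernel.condition h)).app W b)
  obtain ⟨τ, hτ⟩ := Groth.QCohMod.exists_app_eq_of_mono_exact
    (S := ShortComplex.mk (Abelian.image.ι h) (cokernel.π h) (kernel.condition _))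
    (ShortComplex.exact_of_f_is_kernel _ (kernelIsKernel (cokernel.π h))) ⊤ σ hσ
  have hi0 : H.map i ≫ Abelian.factorThruImage h = 0 := by
    rw [← cancel_mono (Abelian.image.ι h), Category.assoc, Abelian.image.fac, zero_comp, ← H.map_comp, hiq,
      H.map_zero]
  let S' : ShortComplex Y.Modules := ShortComplex.mk (H.map i) (Abelian.factorThruImage h) hi0
  have hS' : S'.ShortExact := by
    have hx : (ShortComplex.mk i q hiq).Exact := ShortComplex.exact_cokernel i
    have : Mono (ShortComplex.mk i q hiq).f := Injective.ι_mono O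
    have hx' := hx.map_of_mono_of_preservesKernel H inferInstance inferInstance
    refine { exact := ?_, mono_f := H.map_mono i, epi_g := inferInstanceAs (Epi (Abelian.factorThruImage h)) }
    let Ψ : S' ⟶ (ShortComplex.mk i q hiq).map H :=
      { τ₁ := 𝟙 _
        τ₂ := 𝟙 _
        τ₃ := Abelian.image.ι h
        comm₁₂ := (Category.id_comp _).trans (Category.comp_id _).symm
        comm₂₃ := by
          change 𝟙 _ ≫ h = Abelian.factorThruImage h ≫ Abelian.image.ι h
          rw [Category.id_comp, Abelian.image.fac] }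
    have : Epi Ψ.τ₁ := inferInstanceAs (Epi (𝟙 _))
    have : IsIso Ψ.τ₂ := inferInstanceAs (IsIso (𝟙 _))
    have : Mono Ψ.τ₃ := inferInstanceAs (Mono (Abelian.image.ι h))
    exact (ShortComplex.exact_iff_of_epi_of_isIso_of_mono Ψ).2 hx'
  let τ₀ : Coh.HH Y T 0 := (h0 T).symm τ
  obtain ⟨z, hz⟩ := (EulerDeg.exact_right k hS' 0 τ₀).1 (Subsingleton.elim _ _)
  obtain ⟨a, ha⟩ := (homSec_bijective S.X₃ (Injective.under O)).2 (h0 _ z)
  have e : (Abelian.factorThruImage h).app ⊤ (h0 _ z) = τ := by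
    apply (h0 T).symm.injective
    refine Eq.trans ?_ hz
    have := Sheaf.H.equiv₀_symm_naturality (Limits.isTerminalTop (α := Opens Y))
      (EulerDeg.abMap (Abelian.factorThruImage h)) (h0 _ z)
    exact (this.symm.trans (congrArg _ ((h0 _).symm_apply_apply z)))
  refine ⟨a, (homSec_bijective S.X₃ (cokernel i)).1 ?_⟩
  rw [homSec_comp, ha]
  change h.app ⊤ (h0 _ z) = σ
  rw [← hτ, ← e]
  exact congr(($((Abelian.image.fac h).symm)).app ⊤ (h0 _ z))

end Groth.ArtfunDeform.CMTwo
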