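import Groth.Agent.ArtfunDeform.CMTwo.Smooth
import Groth.Agent.ArtfunDeform.HilbObs.Immersion

/-!
Lifting Hilbert points of a closed immersion which lift locally.
-/

set_option autoImplicit false
set_option linter.style.longLine false

noncomputable section

universe u

open CategoryTheory CategoryTheory.Limits AlgebraicGeometry
open ArtFun ArtFun.Art

namespace Groth.ArtfunDeform.CMTwo

open HilbObs HilbObs.Problem

attribute [local instance] Abelian.hasFiniteBiproducts

/-- Pulled back local splittings. -/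
theorem exists_loc_of_iso {Y Z : Scheme.{u}} (e : Z ⟶ Y) [IsIso e] {M O : Y.Modules} {O' : Z.Modules}
    (g : (Scheme.Modules.pullback e).obj O ⟶ O') (V : Y.Opens) (φ : M ⟶ (locFun V).obj O) :
    ∃ φ' : (Scheme.Modules.pullback e).obj M ⟶ (locFun (e ⁻¹ᵁ V)).obj O',
      ∀ {L : Y.Modules} (f : L ⟶ M) (π : L ⟶ O), f ≫ φ = π ≫ (locUnitAt V).app O →
        (Scheme.Modules.pullback e).map f ≫ φ' =
          ((Scheme.Modules.pullback e).map π ≫ g) ≫ (locUnitAt (e ⁻¹ᵁ V)).app O' := by
  let F := Scheme.Modules.pullback e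
  let R := Scheme.Modules.restrictFunctor (e ⁻¹ᵁ V).ι
  let u := (locUnitAt V).app O
  have h1 : IsIso (R.map ((Scheme.Modules.restrictFunctor e).map u)) := by
    rw [Scheme.Modules.Hom.isIso_iff_isIso_app]
    intro W
    refine (ConcreteCategory.isIso_iff_bijective _).2 ?_
    refine bijective_locUnit_app V O (W := e ''ᵁ ((e ⁻¹ᵁ V).ι ''ᵁ W)) ?_
    refine (Scheme.Hom.image_mono e (Scheme.Opens.ι_image_le _ W)).trans ?_
    exact Scheme.Hom.image_preimage_le e V
  have h2 : IsIso (R.map (F.map u)) :=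
    (NatIso.isIso_map_iff (Functor.isoWhiskerRight (Scheme.Modules.restrictFunctorIsoPullback e) R) u).1 h1
  have h3 : IsIso ((locFun (e ⁻¹ᵁ V)).map (F.map u)) :=
    inferInstanceAs (IsIso ((Scheme.Modules.pushforward (e ⁻¹ᵁ V).ι).map (R.map (F.map u))))
  refine ⟨F.map φ ≫ (locUnitAt (e ⁻¹ᵁ V)).app _ ≫ inv ((locFun (e ⁻¹ᵁ V)).map (F.map u)) ≫
    (locFun (e ⁻¹ᵁ V)).map g, fun f π h => ?_⟩
  have hn := (locUnitAt (e ⁻¹ᵁ V)).naturality (F.map u)
  have hg := (locUnitAt (e ⁻¹ᵁ V)).naturality g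
  rw [← Category.assoc, ← F.map_comp, h, F.map_comp, Category.assoc, Category.assoc]
  refine congrArg (F.map π ≫ ·) ?_
  rw [← Category.assoc]
  refine (congrArg (· ≫ _) hn).trans ?_
  rw [Category.assoc, IsIso.hom_inv_id_assoc]
  exact hg.symm

variable {k : Type u} [Field k] {X Z : Scheme.{u}} {x : X ⟶ specPt k} (i : Z ⟶ X) [IsClosedImmersion i]

/-- With lifts near every point and no first cohomology of the normal sheaf, a lift exists. -/
theorem exists_lift_of_h1_immersion [DCoh.HasSheafHom (Omega.conormal i)]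
    (h1 : Subsingleton (Coh.HH Z ((DCoh.sheafHom (Omega.conormal i)).obj (Coh.structureModule Z)) 1))
    {n d : ℕ} (P : Problem x i.ker n d) (hloc : P.LocallyLiftable) :
    ∃ ξ : (ArtFun.localHilb X x i.ker).obj P.src, (ArtFun.localHilb X x i.ker).map P.p ξ = P.pt := by
  rw [P.exists_lift_iff_section]
  obtain ⟨e, he, heι⟩ : ∃ e : Z ⟶ i.ker.subscheme, IsIso e ∧ e ≫ i.ker.subschemeι = i :=
    ⟨i.toImage, inferInstance, i.toImage_imageι⟩
  have := he
  let _ : Z.Over (Spec (CommRingCat.of k)) := ⟨i ≫ x⟩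
  let F := Scheme.Modules.pullback e
  have hF : F.IsEquivalence := HilbObs.isEquivalence_pullback e
  have : PreservesFiniteLimits F := inferInstance
  have : PreservesFiniteColimits F := inferInstance
  have : F.Additive := (Scheme.Modules.pullbackPushforwardAdjunction e).left_adjoint_additive
  have hS₀ := (P.shortExact_seqY hloc).map_of_exact F
  let e₁ : Omega.conormal i ≅ F.obj ((Scheme.Modules.pullback i.ker.subschemeι).obj (ClSub.idealMod i.ker)) :=
    (Scheme.Modules.pullbackCongr heι.symm).app (ClSub.idealMod i.ker) ≪≫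
      ((Scheme.Modules.pullbackComp e i.ker.subschemeι).app (ClSub.idealMod i.ker)).symm
  let S : ShortComplex Z.Modules := ShortComplex.mk (F.map P.tauY) (F.map P.fstY ≫ e₁.inv)
    (by rw [← Category.assoc, ← F.map_comp, P.tauY_fstY, F.map_zero, zero_comp])
  let eS : P.seqY.map F ≅ S :=
    ShortComplex.isoMk (Iso.refl _) (Iso.refl _) e₁.symm ((Category.id_comp _).trans (Category.comp_id _).symm) (Category.id_comp _)
  have hS : S.ShortExact := ShortComplex.shortExact_of_iso eS hS₀
  have : S.X₃.IsQuasicoherent := Groth.QCohMod.isQCoh_pullback_obj _ _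
  have : DCoh.HasSheafHom S.X₃ := ‹_›
  have hu : IsIso (Groth.PicAux.pullUnit e) := Groth.PicAux.isIso_pullUnit e
  have : ∀ l, ∃ φ : P.extY ⟶ Coh.structureModule i.ker.subscheme, P.tauY ≫ φ = biproduct.π _ l := fun l => by
    obtain ⟨φ', hφ'⟩ := exists_split_of_locally hS (F.map (biproduct.π _ l) ≫ Groth.PicAux.pullUnit e) k
      (fun z => by
        obtain ⟨U, hyU, ⟨L⟩⟩ := hloc (e z)
        obtain ⟨φ, hφ⟩ := P.exists_locSection L l
        obtain ⟨φ', hφ'⟩ := exists_loc_of_iso e (Groth.PicAux.pullUnit e) (opY i.ker U.1) φ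
        exact ⟨e ⁻¹ᵁ opY i.ker U.1, hyU, φ', hφ' _ _ hφ⟩)
      h1
    refine ⟨F.preimage (φ' ≫ inv (Groth.PicAux.pullUnit e)), F.map_injective ?_⟩
    rw [F.map_comp, F.map_preimage]
    refine (Category.assoc _ _ _).symm.trans ((congrArg (· ≫ _) hφ').trans ?_)
    simp only [Category.assoc, IsIso.hom_inv_id, Category.comp_id]
  choose φ hφ using this
  exact ⟨biproduct.lift φ, biproduct.hom_ext _ _ fun l => by
    rw [Category.assoc, biproduct.lift_π, hφ, Category.id_comp]⟩

/-- A closed immersion which deforms locally, with no first cohomology of the normal sheaf, is unobstructed. -/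
theorem isSmoothFunctor_of_h1_immersion [DCoh.HasSheafHom (Omega.conormal i)]
    (h1 : Subsingleton (Coh.HH Z ((DCoh.sheafHom (Omega.conormal i)).obj (Coh.structureModule Z)) 1))
    (hloc : ∀ {n d : ℕ} (P : Problem x i.ker n d), P.LocallyLiftable) :
    IsSmoothFunctor (ArtFun.localHilb X x i.ker) := by
  intro B A μ hμ
  refine surj_induction (P := fun A B μ => Function.Surjective ((ArtFun.localHilb X x i.ker).map μ)) ?_ ?_ ?_ μ hμ
  · intro A B e _
    exact (bijective_map_of_isIso _ e).2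
  · intro A B p hp ξ
    exact exists_lift_of_h1_immersion i h1 (probOf p hp.isSemismallExt ξ) (hloc _)
  · intro A B C p q hp hq ξ
    obtain ⟨η, rfl⟩ := hq ξ
    obtain ⟨ζ, rfl⟩ := hp η
    exact ⟨ζ, (map_map _ p q ζ).symm⟩

end Groth.ArtfunDeform.CMTwo
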