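import Groth.Agent.ArtfunDeform.CMTwo.Spread
import Groth.Agent.ArtfunDeform.HilbObs.Conormal
import Groth.Agent.Agf.RegularPoints

/-!
Lifting a resolution by maximal minors along a lifting problem.
-/

set_option autoImplicit false
set_option linter.style.longLine false

universe u

open CategoryTheory AlgebraicGeometry
open ArtFun ArtFun.Art

namespace Groth.ArtfunDeform.CMTwo

open MinorsLift

section Alg

variable {C S R : Type u} [CommRing C] [IsLocalRing C] [IsArtinianRing C] [CommRing S] [Algebra C S]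
  [Module.Flat C S] [CommRing R] (π : S →+* R) (hπ : Function.Surjective π)
  (hker : RingHom.ker π = (IsLocalRing.maximalIdeal C).map (algebraMap C S))

set_option quotPrecheck false in
local notation "𝔐" => (IsLocalRing.maximalIdeal C).map (algebraMap C S)

include hπ hker in
theorem H_of_resolution {I₀ : Ideal R} {r : ℕ} {φ₀ : Matrix (Fin (r + 1)) (Fin r) R} (h : IsResolution I₀ φ₀)
    {φ : Matrix (Fin (r + 1)) (Fin r) S} (hφ : φ.map π = φ₀) :
    (∀ x, (∀ i, φ.mulVec x i ∈ 𝔐) → ∀ j, x j ∈ 𝔐) ∧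
      ∀ y : Fin (r + 1) → S, ∑ i, y i * minors φ i ∈ 𝔐 → ∃ x, ∀ i, y i - φ.mulVec x i ∈ 𝔐 := by
  rw [← hker]
  subst hφ
  refine ⟨fun x hx j => congrFun (h.injective (π ∘ x) (funext fun i => ?_)) j, fun y hy => ?_⟩
  · rw [← RingHom.map_mulVec]
    exact hx i
  · obtain ⟨x₀, hx₀⟩ := h.exact (π ∘ y) (by
      simp only [minors_map, Function.comp_apply, ← map_mul, ← map_sum]
      exact hy)
    choose x hx using fun j => hπ (x₀ j)
    refine ⟨x, fun i => ?_⟩
    rw [RingHom.mem_ker, map_sub, RingHom.map_mulVec, show π ∘ x = x₀ from funext hx, hx₀]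
    exact sub_self _

include hπ hker in
/-- A matrix lifting a resolution has flat cokernel of minors. -/
theorem flat_of_resolution {I₀ : Ideal R} {r : ℕ} {φ₀ : Matrix (Fin (r + 1)) (Fin r) R} (h : IsResolution I₀ φ₀)
    {φ : Matrix (Fin (r + 1)) (Fin r) S} (hφ : φ.map π = φ₀) :
    Module.Flat C (S ⧸ Ideal.span (Set.range (minors φ))) := by
  obtain ⟨h1, h2⟩ := H_of_resolution π hπ hker h hφ
  exact (core φ (minors φ) (minors_mul φ) h1 h2).2.2

include hπ hker in
/-- An ideal with flat quotient over a resolution is given by minors. -/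
theorem exists_matrix [IsRegularRing R] (K : Ideal S) [Module.Flat C (S ⧸ K)] {r : ℕ}
    {φ₀ : Matrix (Fin (r + 1)) (Fin r) R} (h : IsResolution (K.map π) φ₀)
    (hcodim : ∀ P : Ideal R, P.IsPrime → K.map π ≤ P → (2 : ℕ∞) ≤ P.height) :
    ∃ φ : Matrix (Fin (r + 1)) (Fin r) S, φ.map π = φ₀ ∧ K = Ideal.span (Set.range (minors φ)) := by
  let q := Ideal.Quotient.mk 𝔐
  let e : S ⧸ 𝔐 ≃+* R := (Ideal.quotEquivOfEq hker.symm).trans (RingHom.quotientKerEquivOfSurjective hπ)
  have he : ∀ s, e (q s) = π s := fun s => rfl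
  have : IsRegularRing (S ⧸ 𝔐) := IsRegularRing.of_ringEquiv e.symm
  have hne := (IsLocalRing.maximalIdeal.isMaximal C).ne_top
  choose a ha hπa using fun i => (Ideal.mem_map_iff_of_surjective π hπ).1
    (h.span_eq.le (Ideal.subset_span ⟨i, rfl⟩) : minors φ₀ i ∈ K.map π)
  have hqa : ∀ i, q (a i) = e.symm (minors φ₀ i) := fun i => e.injective (by rw [e.apply_symm_apply, he, hπa])
  have hcq : K.map q = (K.map π).map e.symm.toRingHom := by
    rw [Ideal.map_map]
    congr 1
    exact RingHom.ext fun s => e.injective ((he s).trans (e.apply_symm_apply _).symm)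
  obtain ⟨hK, φ, hφ, hcomp⟩ := exists_lift_relations K (IsLocalRing.maximalIdeal C) hne a ha (by
      rw [hcq, ← h.span_eq, Ideal.map_span, ← Set.range_comp]
      exact congrArg Ideal.span (congrArg Set.range (funext fun i => (hqa i).symm)))
    (φ₀.map e.symm) (fun j => by
      simp only [Matrix.map_apply]
      show ∑ i, q (a i) * e.symm (φ₀ i j) = 0
      simp only [hqa, ← map_mul, ← map_sum]
      rw [minors_mul, map_zero])
  have hπφ : φ.map π = φ₀ := by
    ext i j
    have h' := congrArg (fun M : Matrix (Fin (r + 1)) (Fin r) (S ⧸ 𝔐) => e (M i j)) hφ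
    simp only [Matrix.map_apply, RingEquiv.apply_symm_apply] at h'
    exact (he _).symm.trans h'
  obtain ⟨-, h2⟩ := H_of_resolution π hπ hker h hπφ
  refine ⟨φ, hπφ, hK.trans (span_eq φ (minors φ) a (minors_mul φ) hcomp (IsLocalRing.maximalIdeal C) hne
    (fun i => ?_) h2 fun P hP hPf => ?_)⟩
  · rw [← hker, RingHom.mem_ker, map_sub, hπa, ← minors_map, hπφ, sub_self]
  · have hP' : (P.comap e.symm.toRingHom).IsPrime := Ideal.IsPrime.comap _
    refine (hcodim _ hP' ?_).trans (le_of_eq (RingEquiv.height_comap e.symm P))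
    rw [← h.span_eq, Ideal.span_le]
    rintro _ ⟨i, rfl⟩
    show e.symm (minors φ₀ i) ∈ P
    rw [← hπφ, minors_map, ← he, e.symm_apply_apply]
    exact hPf i

end Alg

section Chart

open HilbAffine HilbGlue HilbTangent HilbObs

variable {k : Type u} [Field k] {X : Scheme.{u}} {x : X ⟶ specPt k} {I₀ : X.IdealSheafData}
variable {n d : ℕ} (P : Problem x I₀ n d)

/-- A resolution by minors on a chart with regular functions gives a lift on the chart. -/
theorem nonempty_chartLift_of_resolution (U : X.affineOpens) [IsRegularRing Γ(X, U.1)] {r : ℕ}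
    {φ₀ : Matrix (Fin (r + 1)) (Fin r) Γ(X, U.1)} (h : IsResolution (I₀.ideal U) φ₀)
    (hcodim : ∀ Q : Ideal Γ(X, U.1), Q.IsPrime → I₀.ideal U ≤ Q → (2 : ℕ∞) ≤ Q.height) :
    Nonempty (P.ChartLift U) := by
  let _ : Algebra P.tgt (Sec x P.tgt U) := (coef x P.tgt U).toAlgebra
  have : Module.Flat P.tgt (Sec x P.tgt U) := coef_flat x P.tgt U
  have : Module.Flat P.tgt (Sec x P.tgt U ⧸ P.pt.1.ideal (pre x P.tgt U)) :=
    (flatOver_iff x P.tgt P.pt.1).1 P.pt.2.1 U
  have hK : (P.pt.1.ideal (pre x P.tgt U)).map (fib x P.tgt U) = I₀.ideal U := map_fib' P.pt U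
  obtain ⟨φ', hφ', hK'⟩ := exists_matrix (C := P.tgt) (fib x P.tgt U) (fib_spec x P.tgt U).1 (fib_spec x P.tgt U).2
    (P.pt.1.ideal (pre x P.tgt U)) (hK ▸ h) (hK ▸ hcodim)
  choose ψ hψ using fun i j => (red_spec x P.p P.surj U).1 (φ' i j)
  let φ : Matrix (Fin (r + 1)) (Fin r) (Sec x P.src U) := Matrix.of ψ
  have hred : φ.map (red x P.p U) = φ' := Matrix.ext hψ
  have hfib : φ.map (fib x P.src U) = φ₀ := by
    rw [← hφ', ← hred, Matrix.map_map]
    ext i j
    exact (fib_red x P.p U _).symm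
  let _ : Algebra P.src (Sec x P.src U) := (coef x P.src U).toAlgebra
  have : Module.Flat P.src (Sec x P.src U) := coef_flat x P.src U
  refine ⟨⟨Ideal.span (Set.range (minors φ)),
    flat_of_resolution (C := P.src) (fib x P.src U) (fib_spec x P.src U).1 (fib_spec x P.src U).2 h hfib, ?_⟩⟩
  rw [hK', ← hred, Ideal.map_span, ← Set.range_comp]
  exact congrArg Ideal.span (congrArg Set.range (funext fun i => (minors_map _ φ i).symm))

end Chart

end Groth.ArtfunDeform.CMTwo
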