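import Groth.Agent.ArtfunDeform.CMTwo.Lift
import Groth.Agent.S11449
import Groth.Agent.S9408
import Groth.Agent.Ega4Algebra2.RegularImmersion
import Groth.Agent.Ega4Algebra2.CMEquiv

/-!
Cohen–Macaulay closed subschemes of codimension two in a smooth scheme.
-/

set_option autoImplicit false
set_option linter.style.longLine false

universe u

open CategoryTheory AlgebraicGeometry
open ArtFun ArtFun.Art

namespace Groth.ArtfunDeform.CMTwo

variable {k : Type u} [Field k] {X Y : Scheme.{u}} (f : X ⟶ Spec (CommRingCat.of k)) [Smooth f]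

include f in
theorem isRegularRing_sections (U : X.affineOpens) : IsRegularRing Γ(X, U.1) := by
  let e := (Scheme.ΓSpecIso (CommRingCat.of k)).symm.commRingCatIsoToRingEquiv
  have h : ((f.appLE ⊤ U.1 le_top).hom.comp e.toRingHom).Smooth :=
    RingHom.Smooth.stableUnderComposition _ _ (RingHom.Smooth.of_bijective e.bijective)
      (HasRingHomProperty.appLE @Smooth f inferInstance ⟨⊤, isAffineOpen_top _⟩ U le_top)
  let _ : Algebra k Γ(X, U.1) := ((f.appLE ⊤ U.1 le_top).hom.comp e.toRingHom).toAlgebra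
  have : Algebra.Smooth k Γ(X, U.1) := h
  exact Groth.Agent.S9408.isRegularRing_of_smooth k _

variable (ι : Y ⟶ X) [IsClosedImmersion ι]

theorem exists_point_of_prime (U : X.affineOpens) (Q : Ideal Γ(X, U.1)) [Q.IsPrime] (hQ : ι.ker.ideal U ≤ Q) :
    ∃ (z : Y) (hz : ι z ∈ U.1), (IsAffineOpen.primeIdealOf (U := U.1) U.2 ⟨ι z, hz⟩).asIdeal = Q := by
  have hU : IsAffineOpen U.1 := U.2
  have h1 : hU.fromSpec ⟨Q, inferInstance⟩ ∈ (U.1 : Set X) :=
    hU.range_fromSpec.le ⟨_, rfl⟩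
  have h2 : hU.fromSpec ⟨Q, inferInstance⟩ ∈ (ι.ker.support : Set X) ∩ U.1 := by
    rw [ι.ker.coe_support_inter U, ← hU.fromSpec_image_zeroLocus]
    exact ⟨⟨Q, inferInstance⟩, hQ, rfl⟩
  obtain ⟨z, hz⟩ : hU.fromSpec ⟨Q, inferInstance⟩ ∈ Set.range ι := by
    have := h2.1
    rwa [Scheme.Hom.support_ker, ι.isClosedEmbedding.isClosed_range.closure_eq] at this
  have hzU : ι z ∈ U.1 := hz ▸ h1
  have h3 : hU.primeIdealOf ⟨ι z, hzU⟩ = ⟨Q, inferInstance⟩ :=
    hU.fromSpec.isOpenEmbedding.injective ((hU.fromSpec_primeIdealOf ⟨ι z, hzU⟩).trans hz)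
  exact ⟨z, hzU, congrArg PrimeSpectrum.asIdeal h3⟩

variable (hCM : ∀ y : Y, LocCoh.IsCohenMacaulayLocalRing (Y.presheaf.stalk y))
  (hcodim : ∀ y : Y, ringKrullDim (Y.presheaf.stalk y) + 2 = ringKrullDim (X.presheaf.stalk (ι.base y)))

include hcodim in
theorem two_le_height (U : X.affineOpens) (Q : Ideal Γ(X, U.1)) [Q.IsPrime] (hQ : ι.ker.ideal U ≤ Q) :
    (2 : ℕ∞) ≤ Q.height := by
  obtain ⟨z, hz, rfl⟩ := exists_point_of_prime ι U Q hQ
  let _ := TopCat.Presheaf.algebra_section_stalk X.presheaf (⟨ι z, hz⟩ : U.1)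
  have := U.2.isLocalization_stalk ⟨ι z, hz⟩
  have h := hcodim z
  rw [IsLocalization.AtPrime.ringKrullDim_eq_height (U.2.primeIdealOf ⟨ι z, hz⟩).asIdeal (X.presheaf.stalk (ι z))] at h
  have h0 : (0 : WithBot ℕ∞) + 2 ≤ ringKrullDim (Y.presheaf.stalk z) + 2 :=
    add_le_add_left ringKrullDim_nonneg_of_nontrivial 2
  rw [zero_add, h] at h0
  exact WithBot.coe_le_coe.1 h0

include f hCM hcodim in
theorem exists_resolution (y : Y) :
    ∃ U : X.affineOpens, ι y ∈ U.1 ∧ ∃ (r : ℕ) (φ : Matrix (Fin (r + 1)) (Fin r) Γ(X, U.1)),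
      IsResolution (ι.ker.ideal U) φ := by
  obtain ⟨_, ⟨U, hU, rfl⟩, hyU, -⟩ := X.isBasis_affineOpens.exists_subset_of_mem_open
    (Set.mem_univ (ι y)) isOpen_univ
  have : IsRegularRing Γ(X, U) := isRegularRing_sections f ⟨U, hU⟩
  let _ := TopCat.Presheaf.algebra_section_stalk X.presheaf (⟨ι y, hyU⟩ : U)
  let p := (hU.primeIdealOf ⟨ι y, hyU⟩).asIdeal
  have : IsLocalization.AtPrime (X.presheaf.stalk (ι y)) p := hU.isLocalization_stalk ⟨ι y, hyU⟩
  have : IsRegularLocalRing (X.presheaf.stalk (ι y)) :=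
    IsRegularLocalRing.of_ringEquiv (IsLocalization.algEquiv p.primeCompl (Localization.AtPrime p) _).toRingEquiv
  let e := RingHom.quotientKerEquivOfSurjective (f := (ι.stalkMap y).hom) (ι.stalkMap_surjective y)
  have := hCM y
  have : LocCoh.IsCohenMacaulayLocalRing (X.presheaf.stalk (ι y) ⧸ RingHom.ker (ι.stalkMap y).hom) :=
    Groth.Ega4b.isCohenMacaulayLocalRing_of_ringEquiv e.symm (hCM y)
  obtain ⟨r, φ, hs, -, hi, he⟩ := Groth.Agent.S11449.result (X.presheaf.stalk (ι y)) (RingHom.ker (ι.stalkMap y).hom)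
    (by rw [ringKrullDim_eq_of_ringEquiv e]; exact hcodim y)
  rw [Groth.Ega4b.ker_stalkMap_eq_map ι hU y hyU] at hs
  obtain ⟨t, ht, ψ, hψ⟩ := exists_spread (p := p) (X.presheaf.stalk (ι y)) (IsResolution.of_mulVecLin hs hi he)
  have hzt : ι y ∈ X.basicOpen t := by
    have h3 : hU.primeIdealOf ⟨ι y, hyU⟩ ∈ PrimeSpectrum.basicOpen t := ht
    rw [← hU.fromSpec_preimage_basicOpen] at h3
    have h5 : hU.fromSpec (hU.primeIdealOf ⟨ι y, hyU⟩) ∈ X.basicOpen t := h3
    rwa [hU.fromSpec_primeIdealOf] at h5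
  let _ := (X.presheaf.map (homOfLE (X.basicOpen_le t)).op).hom.toAlgebra
  have := hU.isLocalization_basicOpen t
  refine ⟨X.affineBasicOpen (U := ⟨U, hU⟩) t, hzt, r, ψ.map (algebraMap Γ(X, U) Γ(X, X.basicOpen t)), ?_⟩
  rw [← ι.ker.map_ideal_basicOpen ⟨U, hU⟩ t]
  exact hψ Γ(X, X.basicOpen t)

include hCM hcodim in
/-- Cohen–Macaulay subschemes of codimension two lift locally. -/
theorem locallyLiftable (I₀ : X.IdealSheafData) (hI : I₀ = ι.ker)
    {n d : ℕ} (P : HilbObs.Problem f I₀ n d) : P.LocallyLiftable := by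
  subst hI
  intro z
  obtain ⟨y, hy⟩ : ι.ker.subschemeι z ∈ Set.range ι := by
    have h := ι.ker.range_subschemeι.le ⟨z, rfl⟩
    rwa [Scheme.Hom.support_ker, ι.isClosedEmbedding.isClosed_range.closure_eq] at h
  obtain ⟨U, hU, r, φ, hφ⟩ := exists_resolution f ι hCM hcodim y
  have := isRegularRing_sections f U
  exact ⟨U, hy ▸ hU, nonempty_chartLift_of_resolution P U hφ fun Q _ hQ => two_le_height ι hcodim U Q hQ⟩

end Groth.ArtfunDeform.CMTwo
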