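import Groth.Agent.ArtfunDeform.CMTwo.Glue
import Groth.Agent.ArtfunDeform.CMTwo.Scheme
import Groth.Agent.ArtfunDeform.HilbObs.Lci
import Groth.Agent.QCohMod.PullbackQCoh
import Groth.Agent.OmegaSheaf.IdealMod

/-!
Lifts exist when they exist locally and the normal sheaf has no first cohomology.
-/

set_option autoImplicit false
set_option linter.style.longLine false

noncomputable section

universe u

open CategoryTheory CategoryTheory.Limits AlgebraicGeometry
open ArtFun ArtFun.Art

namespace Groth.ArtfunDeform.CMTwo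

open HilbObs HilbObs.Problem

attribute [local instance] Abelian.hasFiniteBiproducts

variable {k : Type u} [Field k] {X : Scheme.{u}} {x : X ⟶ specPt k} {I₀ : X.IdealSheafData}

/-- With lifts near every point and no first cohomology of the normal sheaf, a lift exists. -/
theorem exists_lift_of_h1 [DCoh.HasSheafHom (Omega.conormal I₀.subschemeι)]
    (h1 : Subsingleton (Coh.HH I₀.subscheme ((DCoh.sheafHom (Omega.conormal I₀.subschemeι)).obj
      (Coh.structureModule I₀.subscheme)) 1))
    {n d : ℕ} (P : Problem x I₀ n d) (hloc : P.LocallyLiftable) :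
    ∃ ξ : (ArtFun.localHilb X x I₀).obj P.src, (ArtFun.localHilb X x I₀).map P.p ξ = P.pt := by
  rw [P.exists_lift_iff_section]
  let _ : I₀.subscheme.Over (Spec (CommRingCat.of k)) := ⟨I₀.subschemeι ≫ x⟩
  let e := conormalIso (I₀ := I₀)
  let S : ShortComplex I₀.subscheme.Modules := ShortComplex.mk P.tauY (P.fstY ≫ e.inv)
    (by rw [← Category.assoc, P.tauY_fstY, zero_comp])
  have hS : S.ShortExact := by
    refine ShortComplex.shortExact_of_iso ?_ (P.shortExact_seqY hloc)
    exact ShortComplex.isoMk (Iso.refl _) (Iso.refl _) e.symm (by simp [S]) (by simp [S])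
  have : S.X₃.IsQuasicoherent := Groth.QCohMod.isQCoh_pullback_obj _ _
  have : DCoh.HasSheafHom S.X₃ := ‹_›
  have : ∀ l, ∃ φ : P.extY ⟶ Coh.structureModule I₀.subscheme, P.tauY ≫ φ = biproduct.π _ l := fun l =>
    exists_split_of_locally hS (biproduct.π _ l) k
      (fun y => by
        obtain ⟨U, hyU, ⟨L⟩⟩ := hloc y
        exact ⟨opY I₀ U.1, hyU, P.exists_locSection L l⟩)
      h1
  choose φ hφ using this
  exact ⟨biproduct.lift φ, biproduct.hom_ext _ _ fun l => by
    rw [Category.assoc, biproduct.lift_π, hφ, Category.id_comp]⟩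

/-- Points lift along semismall extensions when they lift locally and the normal sheaf has no first cohomology. -/
theorem surjective_map_of_h1 [DCoh.HasSheafHom (Omega.conormal I₀.subschemeι)]
    (h1 : Subsingleton (Coh.HH I₀.subscheme ((DCoh.sheafHom (Omega.conormal I₀.subschemeι)).obj
      (Coh.structureModule I₀.subscheme)) 1))
    (hloc : ∀ {n d : ℕ} (P : Problem x I₀ n d), P.LocallyLiftable) {B A : Art k k} {p : B ⟶ A}
    (hp : IsSemismallExt p) :
    Function.Surjective ((ArtFun.localHilb X x I₀).map p) := fun ξ =>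
  exists_lift_of_h1 h1 (probOf p hp ξ) (hloc _)

/-- The local Hilbert functor is smooth when points lift locally and the normal sheaf has no first cohomology. -/
theorem isSmoothFunctor_of_h1 [DCoh.HasSheafHom (Omega.conormal I₀.subschemeι)]
    (h1 : Subsingleton (Coh.HH I₀.subscheme ((DCoh.sheafHom (Omega.conormal I₀.subschemeι)).obj
      (Coh.structureModule I₀.subscheme)) 1))
    (hloc : ∀ {n d : ℕ} (P : Problem x I₀ n d), P.LocallyLiftable) :
    IsSmoothFunctor (ArtFun.localHilb X x I₀) := by
  intro B A μ hμ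
  refine surj_induction (P := fun A B μ => Function.Surjective ((ArtFun.localHilb X x I₀).map μ)) ?_ ?_ ?_ μ hμ
  · intro A B e _
    exact (bijective_map_of_isIso _ e).2
  · intro A B p hp ξ
    exact surjective_map_of_h1 h1 hloc hp.isSemismallExt ξ
  · intro A B C p q hp hq ξ
    obtain ⟨η, rfl⟩ := hq ξ
    obtain ⟨ζ, rfl⟩ := hp η
    exact ⟨ζ, (map_map _ p q ζ).symm⟩

end Groth.ArtfunDeform.CMTwo
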