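import Groth.Agent.ArtfunDeform.MinorsLift
import Mathlib.RingTheory.Localization.Away.Basic
import Mathlib.RingTheory.Localization.Module

/-!
Spreading a resolution by maximal minors from a local ring to a neighbourhood.
-/

set_option autoImplicit false
set_option linter.style.longLine false

universe u

namespace Groth.ArtfunDeform.CMTwo

open MinorsLift

/-- A resolution of an ideal by the maximal minors of a matrix. -/
structure IsResolution {R : Type u} [CommRing R] (I : Ideal R) {r : ℕ} (φ : Matrix (Fin (r + 1)) (Fin r) R) : Prop where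
  span_eq : Ideal.span (Set.range (minors φ)) = I
  injective : ∀ x, φ.mulVec x = 0 → x = 0
  exact : ∀ y : Fin (r + 1) → R, ∑ i, y i * minors φ i = 0 → ∃ x, φ.mulVec x = y

variable {R : Type u} [CommRing R]

theorem IsResolution.mulVecLin {I : Ideal R} {r : ℕ} {φ : Matrix (Fin (r + 1)) (Fin r) R} (h : IsResolution I φ) :
    Function.Injective φ.mulVecLin ∧
      LinearMap.range φ.mulVecLin = LinearMap.ker (Fintype.linearCombination R (minors φ)) := by
  refine ⟨(injective_iff_map_eq_zero _).2 h.injective, le_antisymm ?_ fun y hy => ?_⟩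
  · rintro _ ⟨x, rfl⟩
    rw [LinearMap.mem_ker, Fintype.linearCombination_apply]
    exact dot_mulVec_eq_zero φ _ (minors_mul φ) x
  · rw [LinearMap.mem_ker, Fintype.linearCombination_apply] at hy
    exact h.exact y hy

theorem IsResolution.of_mulVecLin {I : Ideal R} {r : ℕ} {φ : Matrix (Fin (r + 1)) (Fin r) R}
    (hs : Ideal.span (Set.range (minors φ)) = I) (hi : Function.Injective φ.mulVecLin)
    (he : LinearMap.range φ.mulVecLin = LinearMap.ker (Fintype.linearCombination R (minors φ))) :
    IsResolution I φ := by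
  refine ⟨hs, (injective_iff_map_eq_zero φ.mulVecLin).1 hi, fun y hy => ?_⟩
  exact he.ge (show y ∈ LinearMap.ker (Fintype.linearCombination R (minors φ)) by
    rw [LinearMap.mem_ker, Fintype.linearCombination_apply]
    simpa only [smul_eq_mul] using hy)

theorem minors_smul (u : R) {r : ℕ} (φ : Matrix (Fin (r + 1)) (Fin r) R) (i : Fin (r + 1)) :
    minors (u • φ) i = u ^ r * minors φ i := by
  simp only [minors]
  rw [show (u • φ).submatrix i.succAbove id = u • φ.submatrix i.succAbove id from rfl, Matrix.det_smul,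
    Fintype.card_fin]
  ring

theorem IsResolution.smul {I : Ideal R} {r : ℕ} {φ : Matrix (Fin (r + 1)) (Fin r) R} (h : IsResolution I φ)
    {u : R} (hu : IsUnit u) : IsResolution I (u • φ) := by
  have hur : IsUnit (u ^ r) := hu.pow r
  refine ⟨?_, fun x hx => ?_, fun y hy => ?_⟩
  · rw [← h.span_eq, show Set.range (minors (u • φ)) = (u ^ r * ·) '' Set.range (minors φ) by
      rw [← Set.range_comp]; exact congrArg Set.range (funext (minors_smul u φ))]
    refine le_antisymm (Ideal.span_le.2 ?_) (Ideal.span_le.2 ?_)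
    · rintro _ ⟨z, hz, rfl⟩
      exact Ideal.mul_mem_left _ _ (Ideal.subset_span hz)
    · intro z hz
      exact (Ideal.unit_mul_mem_iff_mem _ hur).1 (Ideal.subset_span ⟨z, hz, rfl⟩)
  · rw [Matrix.smul_mulVec] at hx
    exact h.injective x (hu.smul_eq_zero.1 hx)
  · simp only [minors_smul, mul_left_comm _ (u ^ r), ← Finset.mul_sum] at hy
    obtain ⟨x, hx⟩ := h.exact y (hur.mul_right_eq_zero.1 hy)
    exact ⟨(hu.unit⁻¹ : Rˣ).1 • x, by rw [Matrix.smul_mulVec, Matrix.mulVec_smul, hx, smul_smul, IsUnit.mul_val_inv, one_smul]⟩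

variable {p : Ideal R} [p.IsPrime] (A : Type u) [CommRing A] [Algebra R A] [IsLocalization.AtPrime A p]

theorem exists_notMem_smul {M : Type u} [AddCommGroup M] [Module R M] (N N' : Submodule R M) (hN : N.FG)
    (h : ∀ g ∈ N, ∃ t ∉ p, t • g ∈ N') : ∃ t ∉ p, ∀ g ∈ N, t • g ∈ N' := by
  classical
  obtain ⟨s, rfl⟩ := hN
  choose t ht htg using fun g : {g // g ∈ s} => h g (Submodule.subset_span g.2)
  refine ⟨∏ g, t g, fun hp => ?_, fun g hg => ?_⟩
  · obtain ⟨g, -, hg⟩ := Ideal.IsPrime.prod_mem_iff.1 hp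
    exact ht g hg
  · induction hg using Submodule.span_induction with
    | mem g hg =>
      rw [← Finset.prod_erase_mul _ _ (Finset.mem_univ (⟨g, hg⟩ : {g // g ∈ s})), mul_smul]
      exact N'.smul_mem _ (htg ⟨g, hg⟩)
    | zero => simp
    | add a b _ _ ha hb => rw [smul_add]; exact add_mem ha hb
    | smul c a _ ha => rw [smul_comm]; exact N'.smul_mem _ ha

/-- A resolution at a prime spreads to a basic open neighbourhood. -/
theorem exists_spread [IsNoetherianRing R] {I : Ideal R} {r : ℕ} {φ : Matrix (Fin (r + 1)) (Fin r) A}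
    (h : IsResolution (I.map (algebraMap R A)) φ) :
    ∃ t ∉ p, ∃ ψ : Matrix (Fin (r + 1)) (Fin r) R, ∀ (R' : Type u) [CommRing R'] [Algebra R R']
      [IsLocalization.Away t R'], IsResolution (I.map (algebraMap R R')) (ψ.map (algebraMap R R')) := by
  classical
  let M := p.primeCompl
  obtain ⟨⟨s, hs⟩, hsφ⟩ := IsLocalization.exist_integer_multiples_of_finite (M := M) (S := A)
    (fun ij : Fin (r + 1) × Fin r => φ ij.1 ij.2)
  choose ψ hψ using fun i j => hsφ (i, j)
  let u : A := algebraMap R A s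
  have hu : IsUnit u := IsLocalization.map_units A ⟨s, hs⟩
  have hmap : (Matrix.of ψ).map (algebraMap R A) = u • φ := by
    ext i j
    rw [Matrix.map_apply, Matrix.of_apply, hψ i j, Matrix.smul_apply, Algebra.smul_def]
    rfl
  have h' := h.smul hu
  rw [← hmap] at h'
  let Ψ : Matrix (Fin (r + 1)) (Fin r) R := Matrix.of ψ
  let f := minors Ψ
  have hf : ∀ i, minors (Ψ.map (algebraMap R A)) i = algebraMap R A (f i) := minors_map _ Ψ
  let K : Ideal R := Ideal.span (Set.range f)
  have hK : K.map (algebraMap R A) = I.map (algebraMap R A) := by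
    rw [← h'.span_eq, Ideal.map_span, ← Set.range_comp]
    exact congrArg Ideal.span (congrArg Set.range (funext fun i => (hf i).symm))
  have hmem : ∀ {J J' : Ideal R}, J.map (algebraMap R A) ≤ J'.map (algebraMap R A) →
      ∀ g ∈ J, ∃ t ∉ p, t • g ∈ J' := fun {J J'} hle g hg => by
    obtain ⟨t, ht, hte⟩ := (IsLocalization.algebraMap_mem_map_algebraMap_iff M A J' g).1
      (hle (Ideal.mem_map_of_mem _ hg))
    exact ⟨t, ht, hte⟩
  obtain ⟨t₁, ht₁, hI⟩ := exists_notMem_smul (p := p) I K (IsNoetherian.noetherian I) (hmem hK.ge)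
  obtain ⟨t₂, ht₂, hKI⟩ := exists_notMem_smul (p := p) K I (IsNoetherian.noetherian K) (hmem hK.le)
  obtain ⟨t₃, ht₃, hker⟩ := exists_notMem_smul (p := p) (LinearMap.ker Ψ.mulVecLin) ⊥ (IsNoetherian.noetherian _)
    fun x hx => by
      have h0 : (fun j => algebraMap R A (x j)) = 0 := h'.injective _ (funext fun i => by
        refine ((algebraMap R A).map_mulVec Ψ x i).symm.trans ?_
        rw [show Ψ.mulVec x = 0 from hx]
        exact map_zero _)
      choose t ht using fun j => (IsLocalization.map_eq_zero_iff M A (x j)).1 (congrFun h0 j)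
      refine ⟨∏ j, (t j).1, fun hp => ?_, ?_⟩
      · obtain ⟨j, -, hj⟩ := Ideal.IsPrime.prod_mem_iff.1 hp
        exact (t j).2 hj
      · rw [Submodule.mem_bot]
        funext j
        rw [Pi.smul_apply, smul_eq_mul, ← Finset.prod_erase_mul _ _ (Finset.mem_univ j), mul_assoc, ht j, mul_zero]
        rfl
  obtain ⟨t₄, ht₄, hex⟩ := exists_notMem_smul (p := p) (LinearMap.ker (Fintype.linearCombination R f))
    (LinearMap.range Ψ.mulVecLin) (IsNoetherian.noetherian _) fun y hy => by
      rw [LinearMap.mem_ker, Fintype.linearCombination_apply] at hy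
      obtain ⟨x, hx⟩ := h'.exact (fun i => algebraMap R A (y i)) (by
        refine (Finset.sum_congr rfl fun i _ => ((congrArg (algebraMap R A (y i) * ·) (hf i)).trans
          (map_mul (algebraMap R A) _ _).symm)).trans ?_
        rw [← map_sum, show ∑ i, y i * f i = 0 from hy, map_zero])
      obtain ⟨⟨a, ha⟩, hax⟩ := IsLocalization.exist_integer_multiples_of_finite (M := M) (S := A) x
      choose x₀ hx₀ using hax
      have h0 : ∀ i, algebraMap R A (a * y i - Ψ.mulVec x₀ i) = 0 := fun i => by
        rw [map_sub, map_mul, sub_eq_zero, RingHom.map_mulVec, show (algebraMap R A) ∘ x₀ = a • x from funext hx₀,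
          Matrix.mulVec_smul, hx, Pi.smul_apply, Algebra.smul_def]
      choose t ht using fun i => (IsLocalization.map_eq_zero_iff M A _).1 (h0 i)
      refine ⟨(∏ i, (t i).1) * a, fun hp => ?_, ⟨(∏ i, (t i).1) • x₀, ?_⟩⟩
      · rcases (inferInstance : p.IsPrime).mem_or_mem hp with hp | hp
        · obtain ⟨i, -, hi⟩ := Ideal.IsPrime.prod_mem_iff.1 hp
          exact (t i).2 hi
        · exact ha hp
      · funext i
        rw [map_smul, Pi.smul_apply, Pi.smul_apply, smul_eq_mul, smul_eq_mul, Matrix.mulVecLin_apply, mul_assoc,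
          ← sub_eq_zero, ← mul_sub, ← Finset.prod_erase_mul _ _ (Finset.mem_univ i), mul_assoc, ← neg_sub,
          mul_neg, ht i, neg_zero, mul_zero]
  have hp4 : t₁ * t₂ * t₃ * t₄ ∉ p := fun hp => by
    rcases (inferInstance : p.IsPrime).mem_or_mem hp with hp | hp
    rcases (inferInstance : p.IsPrime).mem_or_mem hp with hp | hp
    rcases (inferInstance : p.IsPrime).mem_or_mem hp with hp | hp
    exacts [ht₁ hp, ht₂ hp, ht₃ hp, ht₄ hp]
  refine ⟨t₁ * t₂ * t₃ * t₄, hp4, Ψ, fun R' _ _ _ => ?_⟩
  let t := t₁ * t₂ * t₃ * t₄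
  let a := algebraMap R R'
  have hunit : IsUnit (a (t₁ * t₂ * t₃ * t₄)) := IsLocalization.Away.algebraMap_isUnit t
  simp only [map_mul, IsUnit.mul_iff] at hunit
  obtain ⟨⟨⟨u₁, u₂⟩, u₃⟩, u₄⟩ := hunit
  have hpow : ∀ (c : Submonoid.powers t), IsUnit (a c) := IsLocalization.map_units R'
  refine ⟨?_, fun x hx => ?_, fun y hy => ?_⟩
  · have e : Ideal.span (Set.range (minors (Ψ.map a))) = K.map a := by
      rw [Ideal.map_span, ← Set.range_comp]
      exact congrArg Ideal.span (congrArg Set.range (funext fun i => minors_map a Ψ i))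
    rw [e]
    refine le_antisymm (Ideal.map_le_iff_le_comap.2 fun g hg => ?_) (Ideal.map_le_iff_le_comap.2 fun g hg => ?_)
    · rw [Ideal.mem_comap]
      refine (Ideal.unit_mul_mem_iff_mem _ u₂).1 ?_
      rw [← map_mul]
      exact Ideal.mem_map_of_mem _ (hKI g hg)
    · rw [Ideal.mem_comap]
      refine (Ideal.unit_mul_mem_iff_mem _ u₁).1 ?_
      rw [← map_mul]
      exact Ideal.mem_map_of_mem _ (hI g hg)
  · obtain ⟨c, hc⟩ := IsLocalization.exist_integer_multiples_of_finite (M := Submonoid.powers t) (S := R') x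
    choose x₀ hx₀ using hc
    have h0 : ∀ i, a (Ψ.mulVec x₀ i) = 0 := fun i => by
      rw [RingHom.map_mulVec, show a ∘ x₀ = (c : R) • x from funext hx₀, Matrix.mulVec_smul, hx, smul_zero]
      rfl
    choose d hd using fun i => (IsLocalization.map_eq_zero_iff (Submonoid.powers t) R' _).1 (h0 i)
    have hk : ((∏ i, d i : Submonoid.powers t) : R) • x₀ ∈ LinearMap.ker Ψ.mulVecLin := by
      rw [LinearMap.mem_ker, map_smul]
      funext i
      rw [Pi.smul_apply, smul_eq_mul, Matrix.mulVecLin_apply, ← Finset.prod_erase_mul _ _ (Finset.mem_univ i),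
        Submonoid.coe_mul, mul_assoc, hd i, mul_zero]
      rfl
    have h3 := hker _ hk
    rw [Submodule.mem_bot] at h3
    funext j
    have h4 := congrArg a (congrFun h3 j)
    simp only [Pi.smul_apply, smul_eq_mul, map_mul, Pi.zero_apply, map_zero] at h4
    rw [show a (x₀ j) = a c * x j from (hx₀ j).trans (Algebra.smul_def _ _)] at h4
    exact (hpow c).mul_right_eq_zero.1 ((hpow _).mul_right_eq_zero.1 (u₃.mul_right_eq_zero.1 h4))
  · obtain ⟨c, hc⟩ := IsLocalization.exist_integer_multiples_of_finite (M := Submonoid.powers t) (S := R') y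
    choose y₀ hy₀ using hc
    have hy₀' : ∀ i, a (y₀ i) = a c * y i := fun i => (hy₀ i).trans (Algebra.smul_def _ _)
    obtain ⟨d, hd⟩ := (IsLocalization.map_eq_zero_iff (Submonoid.powers t) R' (∑ i, y₀ i * f i)).1 (by
      rw [map_sum]
      simp only [map_mul]
      simp only [minors_map] at hy
      rw [← mul_zero (a c), ← hy, Finset.mul_sum]
      exact Finset.sum_congr rfl fun i _ => by rw [hy₀' i]; exact mul_assoc _ _ _)
    have hk : (d : R) • y₀ ∈ LinearMap.ker (Fintype.linearCombination R f) := by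
      rw [LinearMap.mem_ker, map_smul, Fintype.linearCombination_apply, smul_eq_mul]
      simpa only [smul_eq_mul] using hd
    obtain ⟨x₀, hx₀⟩ := hex _ hk
    obtain ⟨w, hw⟩ := ((u₄.mul (hpow d)).mul (hpow c)).exists_left_inv
    refine ⟨w • (a ∘ x₀), funext fun i => ?_⟩
    have e := congrArg a (congrFun hx₀ i)
    simp only [Matrix.mulVecLin_apply, Pi.smul_apply, smul_eq_mul, map_mul, RingHom.map_mulVec, hy₀'] at e
    rw [Matrix.mulVec_smul, Pi.smul_apply, smul_eq_mul, e]
    calc w * (a t₄ * (a d * (a c * y i))) = w * (a t₄ * a d * a c) * y i := by ring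
      _ = y i := by rw [hw, one_mul]

end Groth.ArtfunDeform.CMTwo
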